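import Mathlib
import Cfsg.Agent.FastGrp
import Cfsg.Agent.Prune
set_option linter.all false
prune_inst 0x7f00000000000000000000000000000000000000000000000000000000000000000000000000000000000000000000000000000000000000000000000000000000000000000000000000000000000000003fffffffffffffffffffffffffffbeffbdffffffff
open scoped Cfsg.Agent.FastGrp

/-!
# The coset lemma for products of conjugates (helper529)  [S4171, sporadic half]

`L = [a₁, …, aₘ]` a list of elements of `G`, `N 0 ≤ N 1 ≤ … ≤ N k` normal subgroups, the sections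
`N (i+1) / N i` centralised by `N k` and generated by the commutators `⁅p, aⱼ⁆` (`CovS`).
Then for every `n ∈ N k` there are conjugates `aⱼ'` of the `aⱼ` under `N k` with
`a₁ ⋯ aₘ n ∈ a₁' ⋯ aₘ' (N 0)` (`coset`).

So if `a, b` are strongly real, every element of `a b (N k)` is a product of four elements of square one
(`coset_two`), and the same for four elements of square one (`coset_four`).
-/

set_option autoImplicit false

namespace Cfsg.Agent.H529.Inv

open scoped commutatorElement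

variable {G : Type*} [Group G]

/-- conjugate under `K` -/
def CBy (K : Subgroup G) (a b : G) : Prop := ∃ u ∈ K, b = u * a * u⁻¹

theorem CBy.refl (K : Subgroup G) (a : G) : CBy K a a := ⟨1, K.one_mem, by simp⟩

theorem CBy.trans {K : Subgroup G} {a b c : G} (h : CBy K a b) (h' : CBy K b c) : CBy K a c := by
  obtain ⟨u, hu, rfl⟩ := h
  obtain ⟨v, hv, rfl⟩ := h'
  exact ⟨v * u, K.mul_mem hv hu, by group⟩

theorem CBy.mono {K K' : Subgroup G} (hK : K ≤ K') {a b : G} (h : CBy K a b) : CBy K' a b := by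
  obtain ⟨u, hu, rfl⟩ := h
  exact ⟨u, hK hu, rfl⟩

/-- The section `V / W` is generated by commutators with elements of `S`. -/
def CovS (S : Set G) (V W : Subgroup G) : Prop :=
  V ≤ W ⊔ Subgroup.closure {y | ∃ p ∈ V, ∃ a ∈ S, y = ⁅p, a⁆}

/-- ordered products of commutators -/
def Gen (V : Subgroup G) : List G → G → Prop
  | [], x => x = 1
  | a :: l, x => ∃ p ∈ V, ∃ y, Gen V l y ∧ x = ⁅p, a⁆ * y

section Abelian

variable {V : Subgroup G} [hV : V.Normal]

theorem comm_mem {p : G} (hp : p ∈ V) (a : G) : ⁅p, a⁆ ∈ V := by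
  have : ⁅p, a⁆ = p * (a * p⁻¹ * a⁻¹) := by simp only [commutatorElement_def]; group
  rw [this]
  exact V.mul_mem hp (hV.conj_mem _ (V.inv_mem hp) a)

theorem Gen.mem {l : List G} : ∀ {x : G}, Gen V l x → x ∈ V := by
  induction l with
  | nil => rintro x rfl; exact V.one_mem
  | cons a l ih =>
    rintro x ⟨p, hp, y, hy, rfl⟩
    exact V.mul_mem (comm_mem hp a) (ih hy)

theorem Gen.one (l : List G) : Gen V l 1 := by
  induction l with
  | nil => rfl
  | cons a l ih => exact ⟨1, V.one_mem, 1, ih, by simp⟩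

variable (hab : ∀ x ∈ V, ∀ y ∈ V, x * y = y * x)

include hab

theorem comm_mul {p q : G} (hp : p ∈ V) (hq : q ∈ V) (a : G) : ⁅p * q, a⁆ = ⁅p, a⁆ * ⁅q, a⁆ := by
  have h1 : ⁅p * q, a⁆ = p * ⁅q, a⁆ * (a * p⁻¹ * a⁻¹) := by simp only [commutatorElement_def]; group
  have h2 : ⁅q, a⁆ * (a * p⁻¹ * a⁻¹) = (a * p⁻¹ * a⁻¹) * ⁅q, a⁆ :=
    hab _ (comm_mem hq a) _ (hV.conj_mem _ (V.inv_mem hp) a)
  rw [h1, mul_assoc, h2]
  simp only [commutatorElement_def]
  group

theorem Gen.mul {l : List G} : ∀ {x y : G}, Gen V l x → Gen V l y → Gen V l (x * y) := by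
  induction l with
  | nil => rintro x y rfl rfl; simp [Gen]
  | cons a l ih =>
    rintro x y ⟨p, hp, x', hx', rfl⟩ ⟨q, hq, y', hy', rfl⟩
    refine ⟨p * q, V.mul_mem hp hq, x' * y', ih hx' hy', ?_⟩
    rw [comm_mul hab hp hq]
    have h : x' * ⁅q, a⁆ = ⁅q, a⁆ * x' := hab _ hx'.mem _ (comm_mem hq a)
    calc ⁅p, a⁆ * x' * (⁅q, a⁆ * y') = ⁅p, a⁆ * (x' * ⁅q, a⁆) * y' := by group
      _ = ⁅p, a⁆ * ⁅q, a⁆ * (x' * y') := by rw [h]; group

theorem Gen.inv {l : List G} : ∀ {x : G}, Gen V l x → Gen V l x⁻¹ := by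
  induction l with
  | nil => rintro x rfl; simp [Gen]
  | cons a l ih =>
    rintro x ⟨p, hp, x', hx', rfl⟩
    refine ⟨p⁻¹, V.inv_mem hp, x'⁻¹, ih hx', ?_⟩
    have h0 : ⁅p⁻¹, a⁆ * ⁅p, a⁆ = 1 := by
      rw [← comm_mul hab (V.inv_mem hp) hp, inv_mul_cancel, commutatorElement_one_left]
    have h1 : ⁅p⁻¹, a⁆ = ⁅p, a⁆⁻¹ := eq_inv_of_mul_eq_one_left h0
    rw [h1, mul_inv_rev]
    exact hab _ (V.inv_mem hx'.mem) _ (V.inv_mem (comm_mem hp a))

theorem Gen.of_mem {l : List G} {p a : G} (hp : p ∈ V) (ha : a ∈ l) : Gen V l ⁅p, a⁆ := by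
  induction l with
  | nil => simp at ha
  | cons b l ih =>
    rcases List.mem_cons.1 ha with rfl | ha
    · exact ⟨p, hp, 1, Gen.one l, by simp⟩
    · exact ⟨1, V.one_mem, _, ih ha, by simp⟩

/-- `Gen` from generation by commutators -/
theorem gen_of_cov {l : List G} (h : CovS {a | a ∈ l} V ⊥) {x : G} (hx : x ∈ V) : Gen V l x := by
  have h1 := h hx
  rw [bot_sup_eq] at h1
  refine Subgroup.closure_induction (p := fun x _ => Gen V l x) ?_ (Gen.one l)
    (fun x y _ _ hx hy => Gen.mul hab hx hy) (fun x _ hx => Gen.inv hab hx) h1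
  rintro y ⟨p, hp, a, ha, rfl⟩
  exact Gen.of_mem hab hp ha

/-- **One abelian section with trivial bottom.** -/
theorem conj_of_gen {l : List G} : ∀ {x : G}, Gen V l x →
    ∃ l' : List G, List.Forall₂ (CBy V) l l' ∧ l'.prod = x * l.prod := by
  induction l with
  | nil => rintro x rfl; exact ⟨[], List.Forall₂.nil, by simp⟩
  | cons a l ih =>
    rintro x ⟨p, hp, y, hy, rfl⟩
    obtain ⟨l', h1, h2⟩ := ih hy
    refine ⟨(p * y) * a * (p * y)⁻¹ :: l', List.Forall₂.cons ⟨p * y, V.mul_mem hp hy.mem, rfl⟩ h1, ?_⟩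
    rw [List.prod_cons, h2, List.prod_cons]
    have h3 : (p * y) * a * (p * y)⁻¹ = ⁅p, a⁆ * ⁅y, a⁆ * a := by
      rw [← comm_mul hab hp hy.mem]
      simp only [commutatorElement_def]
      group
    rw [h3]
    simp only [commutatorElement_def]
    group

end Abelian

/-- lift a list of conjugates from a quotient -/
theorem lift_forall₂ {W V : Subgroup G} [W.Normal] {l : List G} : ∀ {m : List (G ⧸ W)},
    List.Forall₂ (CBy (V.map (QuotientGroup.mk' W))) (l.map (QuotientGroup.mk' W)) m →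
    ∃ l' : List G, List.Forall₂ (CBy V) l l' ∧ l'.map (QuotientGroup.mk' W) = m := by
  induction l with
  | nil =>
    intro m h
    rw [List.map_nil, List.forall₂_nil_left_iff] at h
    subst h
    exact ⟨[], List.Forall₂.nil, rfl⟩
  | cons a l ih =>
    intro m h
    rw [List.map_cons] at h
    cases h with
    | cons h1 h2 =>
      obtain ⟨_, ⟨u, hu, rfl⟩, rfl⟩ := h1
      obtain ⟨l', h3, rfl⟩ := ih h2
      exact ⟨(u * a * u⁻¹) :: l', List.Forall₂.cons ⟨u, hu, rfl⟩ h3, by simp only [_root_.QuotientGroup.coe_mk', _root_.List.map_cons, _root_.QuotientGroup.mk_mul, _root_.QuotientGroup.mk_inv, _root_.QuotientGroup.mk'_apply]⟩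

/-- `CovS` in a quotient -/
theorem CovS.map {S : Set G} {V W : Subgroup G} [W.Normal] (h : CovS S V W) :
    CovS (QuotientGroup.mk' W '' S) (V.map (QuotientGroup.mk' W)) ⊥ := by
  have h1 := Subgroup.map_mono (f := QuotientGroup.mk' W) h
  rw [Subgroup.map_sup, MonoidHom.map_closure] at h1
  have h2 : W.map (QuotientGroup.mk' W) = ⊥ := by
    rw [Subgroup.map_eq_bot_iff, QuotientGroup.ker_mk']
  rw [h2] at h1
  refine le_trans h1 (sup_le_sup_left (Subgroup.closure_mono ?_) ⊥)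
  rintro _ ⟨_, ⟨p, hp, a, ha, rfl⟩, rfl⟩
  exact ⟨_, Subgroup.mem_map_of_mem _ hp, _, ⟨a, ha, rfl⟩, map_commutatorElement _ _ _⟩

/-- **One section.** -/
theorem step {L : List G} {V W : Subgroup G} [V.Normal] [W.Normal]
    (hab : ∀ x ∈ V, ∀ y ∈ V, ⁅x, y⁆ ∈ W) (hc : CovS {a | a ∈ L} V W) {x : G} (hx : x ∈ V) :
    ∃ L' : List G, List.Forall₂ (CBy V) L L' ∧ L'.prod⁻¹ * (x * L.prod) ∈ W := by
  haveI : (V.map (QuotientGroup.mk' W)).Normal :=
    Subgroup.Normal.map inferInstance _ (QuotientGroup.mk'_surjective W)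
  have hab' : ∀ x ∈ V.map (QuotientGroup.mk' W), ∀ y ∈ V.map (QuotientGroup.mk' W), x * y = y * x := by
    rintro _ ⟨x, hx, rfl⟩ _ ⟨y, hy, rfl⟩
    have h1 : QuotientGroup.mk' W ⁅x, y⁆ = 1 := (QuotientGroup.eq_one_iff _).2 (hab x hx y hy)
    rw [map_commutatorElement, commutatorElement_eq_one_iff_mul_comm] at h1
    exact h1
  have hcov : CovS {a | a ∈ L.map (QuotientGroup.mk' W)} (V.map (QuotientGroup.mk' W)) ⊥ := by
    have h1 := hc.map
    have h2 : QuotientGroup.mk' W '' {a | a ∈ L} = {a | a ∈ L.map (QuotientGroup.mk' W)} := by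
      ext y
      simp only [_root_.QuotientGroup.mk'_apply, _root_.QuotientGroup.coe_mk', _root_.Set.mem_image, _root_.Set.mem_ofPred_eq, _root_.List.mem_map]
    rwa [h2] at h1
  obtain ⟨m, h1, h2⟩ := conj_of_gen hab' (gen_of_cov hab' hcov (Subgroup.mem_map_of_mem _ hx))
  obtain ⟨L', h3, rfl⟩ := lift_forall₂ h1
  refine ⟨L', h3, ?_⟩
  rw [← map_list_prod, ← map_list_prod, ← map_mul] at h2
  exact QuotientGroup.eq.1 h2

/-- `CovS` only depends on the cosets of a subgroup centralising the section. -/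
theorem CovS.congr {K : Subgroup G} [K.Normal] {L L' : List G} {V W : Subgroup G} [V.Normal] [W.Normal]
    (hcent : ∀ x ∈ V, ∀ y ∈ K, ⁅x, y⁆ ∈ W) (h : CovS {a | a ∈ L} V W)
    (hL : List.Forall₂ (CBy K) L L') : CovS {a | a ∈ L'} V W := by
  refine le_trans h (sup_le le_sup_left ?_)
  rw [Subgroup.closure_le]
  rintro _ ⟨p, hp, a, ha, rfl⟩
  -- the partner of `a`
  obtain ⟨b, hb, u, hu, rfl⟩ : ∃ b ∈ L', CBy K a b := by
    clear h
    induction hL with
    | nil => simp at ha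
    | cons h1 h2 ih =>
      rcases List.mem_cons.1 ha with rfl | ha
      · exact ⟨_, List.mem_cons_self, h1⟩
      · obtain ⟨b, hb, h3⟩ := ih ha
        exact ⟨b, List.mem_cons_of_mem _ hb, h3⟩
  -- `⁅p, c a⁆ = ⁅p, a⁆` modulo `W` for `c = ⁅u, a⁆ ∈ K`
  set c := ⁅u, a⁆ with hc
  have hcK : c ∈ K := comm_mem hu a
  have e0 : u * a * u⁻¹ = c * a := by rw [hc, commutatorElement_def]; group
  have hp' : a * p⁻¹ * a⁻¹ ∈ V := Subgroup.Normal.conj_mem inferInstance _ (V.inv_mem hp) a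
  have e1 : ⁅p, c * a⁆ = p * (c * (a * p⁻¹ * a⁻¹) * c⁻¹) := by
    simp only [commutatorElement_def]; group
  have e2 : ⁅p, a⁆ = ⁅p, c * a⁆ * ((a * p⁻¹ * a⁻¹)⁻¹ * ⁅a * p⁻¹ * a⁻¹, c⁆⁻¹⁻¹ * (a * p⁻¹ * a⁻¹)⁻¹⁻¹)⁻¹⁻¹ := by
    rw [e1]
    simp only [commutatorElement_def]
    group
  rw [SetLike.mem_coe, e2]
  refine Subgroup.mul_mem _ ?_ ?_
  · refine Subgroup.mem_sup_right (Subgroup.subset_closure ⟨p, hp, _, hb, ?_⟩)
    rw [e0]
  · refine Subgroup.mem_sup_left ?_
    rw [inv_inv, inv_inv]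
    exact Subgroup.Normal.conj_mem inferInstance _ (hcent _ hp' c hcK) _

theorem forall₂_trans {K : Subgroup G} {L L' L'' : List G} (h : List.Forall₂ (CBy K) L L')
    (h' : List.Forall₂ (CBy K) L' L'') : List.Forall₂ (CBy K) L L'' := by
  induction h generalizing L'' with
  | nil =>
    cases h'
    exact List.Forall₂.nil
  | cons h1 h2 ih =>
    cases h' with
    | cons h3 h4 => exact List.Forall₂.cons (h1.trans h3) (ih h4)

theorem forall₂_refl {K : Subgroup G} (L : List G) : List.Forall₂ (CBy K) L L := by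
  induction L with
  | nil => exact List.Forall₂.nil
  | cons a l ih => exact List.Forall₂.cons (CBy.refl K a) ih

theorem forall₂_mono {K K' : Subgroup G} (hK : K ≤ K') {L L' : List G}
    (h : List.Forall₂ (CBy K) L L') : List.Forall₂ (CBy K') L L' := by
  induction h with
  | nil => exact List.Forall₂.nil
  | cons h1 _ ih => exact List.Forall₂.cons (h1.mono hK) ih

/-- **The coset lemma for products of conjugates.** -/
theorem coset (L : List G) (N : ℕ → Subgroup G) [hN : ∀ i, (N i).Normal] (k : ℕ)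
    (hmono : ∀ i < k, N i ≤ N (i + 1))
    (hcent : ∀ i < k, ∀ x ∈ N (i + 1), ∀ y ∈ N k, ⁅x, y⁆ ∈ N i)
    (hcov : ∀ i < k, CovS {a | a ∈ L} (N (i + 1)) (N i)) {n : G} (hn : n ∈ N k) :
    ∃ L' : List G, List.Forall₂ (CBy (N k)) L L' ∧ L'.prod⁻¹ * (L.prod * n) ∈ N 0 := by
  have hle : ∀ j ≤ k, ∀ i ≤ j, N i ≤ N j := by
    intro j
    induction j with
    | zero =>
      intro _ i hi
      rw [Nat.le_zero.1 hi]
    | succ j ih =>
      intro hj i hi
      rcases Nat.lt_or_ge i (j + 1) with h | h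
      · exact le_trans (ih (by omega) i (by omega)) (hmono j (by omega))
      · rw [le_antisymm hi h]
  have main : ∀ d ≤ k, ∃ L' : List G, List.Forall₂ (CBy (N k)) L L' ∧
      L'.prod⁻¹ * (L.prod * n) ∈ N (k - d) := by
    intro d
    induction d with
    | zero =>
      intro _
      refine ⟨L, forall₂_refl L, ?_⟩
      rw [inv_mul_cancel_left, Nat.sub_zero]
      exact hn
    | succ d ih =>
      intro hd
      obtain ⟨L', hL', h⟩ := ih (by omega)
      set i := k - (d + 1) with hi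
      have hik : i < k := by omega
      have hi1 : k - d = i + 1 := by omega
      rw [hi1] at h
      have hc : CovS {a | a ∈ L'} (N (i + 1)) (N i) := (hcov i hik).congr (hcent i hik) hL'
      set x := L'.prod * (L'.prod⁻¹ * (L.prod * n)) * L'.prod⁻¹ with hx
      have hxN : x ∈ N (i + 1) := Subgroup.Normal.conj_mem inferInstance _ h _
      obtain ⟨L'', h1, h2⟩ := step (fun x hx y hy => hcent i hik x hx y
        (hle k le_rfl (i + 1) hik hy)) hc hxN
      refine ⟨L'', forall₂_trans hL' (forall₂_mono (hle k le_rfl (i + 1) hik) h1), ?_⟩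
      have h3 : x * L'.prod = L.prod * n := by rw [hx]; group
      rwa [h3] at h2
  have := main k le_rfl
  rwa [Nat.sub_self] at this

/-- product of two elements of square one -/
def I2 (g : G) : Prop := ∃ s t : G, s * s = 1 ∧ t * t = 1 ∧ g = s * t

/-- product of four elements of square one -/
def I4 (g : G) : Prop :=
  ∃ a b c d : G, a * a = 1 ∧ b * b = 1 ∧ c * c = 1 ∧ d * d = 1 ∧ g = a * b * c * d

theorem sq_conj {s : G} (hs : s * s = 1) (x : G) : x * s * x⁻¹ * (x * s * x⁻¹) = 1 := by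
  calc x * s * x⁻¹ * (x * s * x⁻¹) = x * (s * s) * x⁻¹ := by group
    _ = 1 := by rw [hs]; simp

theorem sq_mul_central {s z : G} (hs : s * s = 1) (hz : z * z = 1) (h : z * s = s * z) :
    z * s * (z * s) = 1 := by
  calc z * s * (z * s) = z * (s * z) * s := by group
    _ = z * (z * s) * s := by rw [h]
    _ = (z * z) * (s * s) := by group
    _ = 1 := by rw [hs, hz, mul_one]

theorem I2.conj {g : G} (h : I2 g) (x : G) : I2 (x * g * x⁻¹) := by
  obtain ⟨s, t, hs, ht, rfl⟩ := h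
  exact ⟨x * s * x⁻¹, x * t * x⁻¹, sq_conj hs x, sq_conj ht x, by group⟩

theorem I4.conj {g : G} (h : I4 g) (x : G) : I4 (x * g * x⁻¹) := by
  obtain ⟨a, b, c, d, ha, hb, hc, hd, rfl⟩ := h
  exact ⟨x * a * x⁻¹, x * b * x⁻¹, x * c * x⁻¹, x * d * x⁻¹, sq_conj ha x, sq_conj hb x,
    sq_conj hc x, sq_conj hd x, by group⟩

theorem I2.mul {g h : G} (hg : I2 g) (hh : I2 h) : I4 (g * h) := by
  obtain ⟨s, t, hs, ht, rfl⟩ := hg
  obtain ⟨s', t', hs', ht', rfl⟩ := hh
  exact ⟨s, t, s', t', hs, ht, hs', ht', by group⟩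

/-- the usual form of strong reality -/
theorem I2.of_inv {g t : G} (ht : t * t = 1) (h : t * g * t⁻¹ = g⁻¹) : I2 g := by
  refine ⟨t, t * g, ht, ?_, by rw [← mul_assoc, ht, one_mul]⟩
  calc t * g * (t * g) = (t * g * t⁻¹) * (t * t) * g := by group
    _ = 1 := by rw [h, ht]; simp

theorem I2.map {H : Type*} [Group H] (f : G →* H) {g : G} (h : I2 g) : I2 (f g) := by
  obtain ⟨s, t, hs, ht, rfl⟩ := h
  exact ⟨f s, f t, by rw [← map_mul, hs, map_one], by rw [← map_mul, ht, map_one], map_mul f s t⟩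

theorem I4.map {H : Type*} [Group H] (f : G →* H) {g : G} (h : I4 g) : I4 (f g) := by
  obtain ⟨a, b, c, d, ha, hb, hc, hd, rfl⟩ := h
  exact ⟨f a, f b, f c, f d, by rw [← map_mul, ha, map_one], by rw [← map_mul, hb, map_one],
    by rw [← map_mul, hc, map_one], by rw [← map_mul, hd, map_one], by simp only [map_mul]⟩

/-- an element of a commuting product: `g = x y`, both products of four (or two) elements of square one
in commuting subgroups -/
theorem I4.mul_of_commute (X Y : Subgroup G) (hXY : ∀ x ∈ X, ∀ y ∈ Y, x * y = y * x) {g h : G}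
    (hg : ∃ a ∈ X, ∃ b ∈ X, ∃ c ∈ X, ∃ d ∈ X, a * a = 1 ∧ b * b = 1 ∧ c * c = 1 ∧ d * d = 1 ∧
      g = a * b * c * d)
    (hh : ∃ a ∈ Y, ∃ b ∈ Y, ∃ c ∈ Y, ∃ d ∈ Y, a * a = 1 ∧ b * b = 1 ∧ c * c = 1 ∧ d * d = 1 ∧
      h = a * b * c * d) : I4 (g * h) := by
  obtain ⟨a, ha, b, hb, c, hc, d, hd, a1, b1, c1, d1, rfl⟩ := hg
  obtain ⟨a', ha', b', hb', c', hc', d', hd', a1', b1', c1', d1', rfl⟩ := hh
  refine ⟨a * a', b * b', c * c', d * d', sq_mul_central a1' a1 (hXY a ha a' ha'),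
    sq_mul_central b1' b1 (hXY b hb b' hb'), sq_mul_central c1' c1 (hXY c hc c' hc'),
    sq_mul_central d1' d1 (hXY d hd d' hd'), ?_⟩
  have e1 := hXY b hb a' ha'
  have e2 := hXY c hc a' ha'
  have e3 := hXY c hc b' hb'
  have e4 := hXY d hd a' ha'
  have e5 := hXY d hd b' hb'
  have e6 := hXY d hd c' hc'
  calc a * b * c * d * (a' * b' * c' * d')
      = a * b * c * (d * a') * (b' * c' * d') := by group
    _ = a * b * (c * a') * d * (b' * c' * d') := by rw [e4]; group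
    _ = a * (b * a') * c * d * (b' * c' * d') := by rw [e2]; group
    _ = a * a' * b * c * (d * b') * (c' * d') := by rw [e1]; group
    _ = a * a' * b * (c * b') * d * (c' * d') := by rw [e5]; group
    _ = a * a' * (b * b') * c * (d * c') * d' := by rw [e3]; group
    _ = a * a' * (b * b') * (c * c') * (d * d') := by rw [e6]; group

section Pair

variable {a b : G} (N : ℕ → Subgroup G) [hN : ∀ i, (N i).Normal] (k : ℕ)

/-- **the coset lemma for a pair**: `a b n = (u a u⁻¹) (w b w⁻¹) z`, `z ∈ N 0`. -/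
theorem coset_pair (hmono : ∀ i < k, N i ≤ N (i + 1))
    (hcent : ∀ i < k, ∀ x ∈ N (i + 1), ∀ y ∈ N k, ⁅x, y⁆ ∈ N i)
    (hcov : ∀ i < k, CovS {a, b} (N (i + 1)) (N i)) {n : G} (hn : n ∈ N k) :
    ∃ u ∈ N k, ∃ w ∈ N k, ∃ z ∈ N 0, a * b * n = (u * a * u⁻¹) * (w * b * w⁻¹) * z := by
  have hset : {x | x ∈ [a, b]} = ({a, b} : Set G) := by ext x; simp
  obtain ⟨L', h1, h2⟩ := coset [a, b] N k hmono hcent (by rwa [hset]) hn
  cases h1 with
  | cons e1 h1 =>
    cases h1 with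
    | cons e2 h1 =>
      cases h1
      obtain ⟨u, hu, rfl⟩ := e1
      obtain ⟨w, hw, rfl⟩ := e2
      refine ⟨u, hu, w, hw, _, h2, ?_⟩
      simp only [mul_assoc, _root_.List.prod_cons, _root_.List.prod_nil, _root_.mul_one, _root_.mul_inv_rev, _root_.inv_inv, _root_.inv_mul_cancel_left, _root_.mul_inv_cancel_left]

/-- the same with a central bottom `N 0` of exponent two -/
theorem coset_two_central (ha : I2 a) (hb : I2 b) (h0 : ∀ z ∈ N 0, z * z = 1 ∧ ∀ g : G, z * g = g * z)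
    (hmono : ∀ i < k, N i ≤ N (i + 1))
    (hcent : ∀ i < k, ∀ x ∈ N (i + 1), ∀ y ∈ N k, ⁅x, y⁆ ∈ N i)
    (hcov : ∀ i < k, CovS {a, b} (N (i + 1)) (N i)) {n : G} (hn : n ∈ N k) : I4 (a * b * n) := by
  obtain ⟨u, _, w, _, z, hz, e⟩ := coset_pair N k hmono hcent hcov hn
  obtain ⟨hz1, hz2⟩ := h0 z hz
  rw [e]
  obtain ⟨s, t, hs, ht, e1⟩ := ha.conj u
  obtain ⟨s', t', hs', ht', e2⟩ := hb.conj w
  refine ⟨s, t, s', z * t', hs, ht, hs', sq_mul_central ht' hz1 (hz2 t'), ?_⟩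
  rw [e1, e2]
  calc s * t * (s' * t') * z = s * t * s' * (t' * z) := by group
    _ = s * t * s' * (z * t') := by rw [hz2]

end Pair

section Four

variable {t₁ t₂ t₃ t₄ : G} (N : ℕ → Subgroup G) [hN : ∀ i, (N i).Normal] (k : ℕ)

/-- **four elements of square one** -/
theorem coset_four (h1 : t₁ * t₁ = 1) (h2 : t₂ * t₂ = 1) (h3 : t₃ * t₃ = 1) (h4 : t₄ * t₄ = 1)
    (h0 : ∀ z ∈ N 0, z * z = 1 ∧ ∀ g : G, z * g = g * z)
    (hmono : ∀ i < k, N i ≤ N (i + 1))
    (hcent : ∀ i < k, ∀ x ∈ N (i + 1), ∀ y ∈ N k, ⁅x, y⁆ ∈ N i)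
    (hcov : ∀ i < k, CovS {t₁, t₂, t₃, t₄} (N (i + 1)) (N i)) {n : G} (hn : n ∈ N k) :
    I4 (t₁ * t₂ * t₃ * t₄ * n) := by
  have hset : {x | x ∈ [t₁, t₂, t₃, t₄]} = ({t₁, t₂, t₃, t₄} : Set G) := by ext x; simp
  obtain ⟨L', e, hz⟩ := coset [t₁, t₂, t₃, t₄] N k hmono hcent (by rwa [hset]) hn
  cases e with
  | cons e1 e =>
    cases e with
    | cons e2 e =>
      cases e with
      | cons e3 e =>
        cases e with
        | cons e4 e =>
          cases e
          obtain ⟨u1, _, rfl⟩ := e1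
          obtain ⟨u2, _, rfl⟩ := e2
          obtain ⟨u3, _, rfl⟩ := e3
          obtain ⟨u4, _, rfl⟩ := e4
          obtain ⟨hz1, hz2⟩ := h0 _ hz
          set z := ([u1 * t₁ * u1⁻¹, u2 * t₂ * u2⁻¹, u3 * t₃ * u3⁻¹, u4 * t₄ * u4⁻¹].prod)⁻¹ *
            ([t₁, t₂, t₃, t₄].prod * n) with hzdef
          refine ⟨u1 * t₁ * u1⁻¹, u2 * t₂ * u2⁻¹, u3 * t₃ * u3⁻¹, z * (u4 * t₄ * u4⁻¹),
            sq_conj h1 _, sq_conj h2 _, sq_conj h3 _, sq_mul_central (sq_conj h4 _) hz1 (hz2 _), ?_⟩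
          rw [hz2, hzdef]
          simp only [List.prod_cons, List.prod_nil]
          group

end Four

/-- `⁅p, g⁆` for `g` in the generated subgroup -/
theorem comm_closure_mem {S : Set G} {V : Subgroup G} [hV : V.Normal]
    (hab : ∀ x ∈ V, ∀ y ∈ V, x * y = y * x) {g : G} (hg : g ∈ Subgroup.closure S) {p : G} (hp : p ∈ V) :
    ⁅p, g⁆ ∈ Subgroup.closure {y | ∃ p ∈ V, ∃ a ∈ S, y = ⁅p, a⁆} := by
  set T : Subgroup G := Subgroup.closure {y | ∃ p ∈ V, ∃ a ∈ S, y = ⁅p, a⁆} with hT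
  have hTV : T ≤ V := by
    rw [hT, Subgroup.closure_le]
    rintro _ ⟨p, hp, a, _, rfl⟩
    exact comm_mem hp a
  have hconj : ∀ a ∈ S, ∀ t ∈ T, a * t * a⁻¹ ∈ T := by
    intro a ha t ht
    have h1 : ⁅t, a⁆ ∈ T := Subgroup.subset_closure ⟨t, hTV ht, a, ha, rfl⟩
    have h2 : a * t * a⁻¹ = ⁅t, a⁆⁻¹ * t := by rw [commutatorElement_def]; group
    rw [h2]
    exact T.mul_mem (T.inv_mem h1) ht
  have hconj' : ∀ a ∈ S, ∀ t ∈ T, a⁻¹ * t * a ∈ T := by
    intro a ha t ht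
    have hp : a⁻¹ * t * a ∈ V := by
      have := hV.conj_mem _ (hTV ht) a⁻¹
      rwa [inv_inv] at this
    have h1 : ⁅a⁻¹ * t * a, a⁆ ∈ T := Subgroup.subset_closure ⟨_, hp, a, ha, rfl⟩
    have h2 : a⁻¹ * t * a = ⁅a⁻¹ * t * a, a⁆ * t := by rw [commutatorElement_def]; group
    rw [h2]
    exact T.mul_mem h1 ht
  have hnorm : ∀ g ∈ Subgroup.closure S, (∀ t ∈ T, g * t * g⁻¹ ∈ T) ∧ (∀ t ∈ T, g⁻¹ * t * g ∈ T) := by
    intro g hg
    refine Subgroup.closure_induction (p := fun g _ => (∀ t ∈ T, g * t * g⁻¹ ∈ T) ∧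
      (∀ t ∈ T, g⁻¹ * t * g ∈ T)) ?_ ?_ ?_ ?_ hg
    · exact fun a ha => ⟨hconj a ha, hconj' a ha⟩
    · exact ⟨fun t ht => by simpa using ht, fun t ht => by simpa using ht⟩
    · rintro g h _ _ ⟨h1, h2⟩ ⟨h3, h4⟩
      refine ⟨fun t ht => ?_, fun t ht => ?_⟩
      · have := h1 _ (h3 t ht)
        rwa [show g * (h * t * h⁻¹) * g⁻¹ = g * h * t * (g * h)⁻¹ by group] at this
      · have := h4 _ (h2 t ht)
        rwa [show h⁻¹ * (g⁻¹ * t * g) * h = (g * h)⁻¹ * t * (g * h) by group] at this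
    · rintro g _ ⟨h1, h2⟩
      exact ⟨fun t ht => by simpa using h2 t ht, fun t ht => by simpa only [_root_.inv_inv] using h1 t ht⟩
  have key : ∀ p ∈ V, ⁅p, g⁆ ∈ T := by
    refine Subgroup.closure_induction (p := fun g _ => ∀ p ∈ V, ⁅p, g⁆ ∈ T) ?_ ?_ ?_ ?_ hg
    · exact fun a ha p hp => Subgroup.subset_closure ⟨p, hp, a, ha, rfl⟩
    · intro p _
      rw [commutatorElement_one_right]
      exact T.one_mem
    · intro g h hg _ h1 h2 p hp
      have e : ⁅p, g * h⁆ = ⁅p, g⁆ * (g * ⁅p, h⁆ * g⁻¹) := by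
        simp only [commutatorElement_def]; group
      rw [e]
      exact T.mul_mem (h1 p hp) ((hnorm g hg).1 _ (h2 p hp))
    · intro g hg h1 p hp
      have e : ⁅p, g⁻¹⁆ = g⁻¹ * ⁅p, g⁆⁻¹ * g := by
        simp only [commutatorElement_def]; group
      rw [e]
      exact (hnorm g hg).2 _ (T.inv_mem (h1 p hp))
  exact key p hp

theorem CovS.of_fpf_bot {S : Set G} {V : Subgroup G} [hV : V.Normal] [Finite V]
    (hab : ∀ x ∈ V, ∀ y ∈ V, x * y = y * x) {x : G} (hx : x ∈ Subgroup.closure S)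
    (hfix : ∀ p ∈ V, ⁅p, x⁆ = 1 → p = 1) : CovS S V ⊥ := by
  let f : V → V := fun p => ⟨⁅(p : G), x⁆, comm_mem p.2 x⟩
  have hinj : Function.Injective f := by
    intro p q h
    have h1 : ⁅(p : G), x⁆ = ⁅(q : G), x⁆ := congrArg Subtype.val h
    have h2 : ⁅(p : G) * (q : G)⁻¹, x⁆ * ⁅(q : G), x⁆ = ⁅(p : G), x⁆ := by
      rw [← comm_mul hab (V.mul_mem p.2 (V.inv_mem q.2)) q.2, inv_mul_cancel_right]
    rw [h1, mul_eq_right] at h2
    have h3 := hfix _ (V.mul_mem p.2 (V.inv_mem q.2)) h2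
    exact Subtype.ext (mul_inv_eq_one.1 h3)
  have hsurj : Function.Surjective f := Finite.surjective_of_injective hinj
  intro v hv
  obtain ⟨p, hp⟩ := hsurj ⟨v, hv⟩
  have h1 : ⁅(p : G), x⁆ = v := congrArg Subtype.val hp
  rw [← h1]
  exact Subgroup.mem_sup_right (comm_closure_mem hab hx p.2)

/-- **A fixed-point-free element of the generated group gives `CovS`** (finite section): `x` in the
subgroup generated by `S`, and every element of `V` commuting with `x` modulo `W` is in `W`. -/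
theorem CovS.of_fpf {S : Set G} {V W : Subgroup G} [hV : V.Normal] [hW : W.Normal] [Finite V]
    (hab : ∀ x ∈ V, ∀ y ∈ V, ⁅x, y⁆ ∈ W) {x : G} (hx : x ∈ Subgroup.closure S)
    (hfix : ∀ p ∈ V, ⁅p, x⁆ ∈ W → p ∈ W) : CovS S V W := by
  haveI : (V.map (QuotientGroup.mk' W)).Normal :=
    Subgroup.Normal.map inferInstance _ (QuotientGroup.mk'_surjective W)
  haveI : Finite (V.map (QuotientGroup.mk' W)) := by
    have := (Set.toFinite (V : Set G)).image (QuotientGroup.mk' W)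
    exact this.to_subtype
  have hab' : ∀ x ∈ V.map (QuotientGroup.mk' W), ∀ y ∈ V.map (QuotientGroup.mk' W), x * y = y * x := by
    rintro _ ⟨x, hx, rfl⟩ _ ⟨y, hy, rfl⟩
    have h1 : QuotientGroup.mk' W ⁅x, y⁆ = 1 := (QuotientGroup.eq_one_iff _).2 (hab x hx y hy)
    rw [map_commutatorElement, commutatorElement_eq_one_iff_mul_comm] at h1
    exact h1
  have hx' : QuotientGroup.mk' W x ∈ Subgroup.closure (QuotientGroup.mk' W '' S) := by
    rw [← MonoidHom.map_closure]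
    exact Subgroup.mem_map_of_mem _ hx
  have h1 := CovS.of_fpf_bot hab' hx' (by
    rintro _ ⟨p, hp, rfl⟩ h
    rw [← map_commutatorElement] at h
    exact (QuotientGroup.eq_one_iff _).2 (hfix p hp ((QuotientGroup.eq_one_iff _).1 h)))
  have h2 : V.map (QuotientGroup.mk' W) ≤
      (Subgroup.closure {y | ∃ p ∈ V, ∃ a ∈ S, y = ⁅p, a⁆}).map (QuotientGroup.mk' W) := by
    refine le_trans h1 ?_
    rw [bot_sup_eq, MonoidHom.map_closure]
    refine Subgroup.closure_mono ?_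
    rintro _ ⟨_, ⟨p, hp, rfl⟩, _, ⟨a, ha, rfl⟩, rfl⟩
    exact ⟨_, ⟨p, hp, a, ha, rfl⟩, map_commutatorElement _ _ _⟩
  rw [Subgroup.map_le_map_iff, QuotientGroup.ker_mk', sup_comm] at h2
  exact h2

end Cfsg.Agent.H529.Inv

private theorem dce_a28e44538bb8 : _root_.True := by
  try have : _root_.True := by simp only [_root_.Cfsg.Agent.H529.Inv.Gen.eq_def]
  try have : _root_.True := by simp only [_root_.Cfsg.Agent.H529.Inv.Gen.eq_2]
  try have : _root_.True := by simp only [_root_.Cfsg.Agent.H529.Inv.Gen.eq_1]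
  exact _root_.True.intro
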